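import Cfsg.Agent.H704.Bridge
import Cfsg.Agent.H614.AltBlk
import Cfsg.Agent.H665.NoPQ

/-!
# Characters of defect zero of symmetric and alternating groups (helper513)

* `hasDZ_perm`, `hasDZ_alt` : from a partition (strictly increasing tuple `β`) whose hook product is prime to `p`;
* `hasDZ_A9` : `A₉` has a character of 3-defect zero (degree 162, the partition `(5, 3, 1)`).
-/

set_option autoImplicit false

namespace Cfsg.Agent.H513.HNF

open Cfsg Cfsg.Agent.H665.NoPQ Cfsg.Agent.H614 Cfsg.Agent.H704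

/-- the irreducible character of `S_n` of the tuple `β`, with its degree -/
theorem exists_irr {m n : ℕ} {β : Fin m → ℕ} (hβ : StrictMono β) (hs : ∑ i, β i = n + ∑ i : Fin m, (i : ℕ))
    {d : ℕ} (hd : d * hookProd (lam m β) = n.factorial) :
    ∃ χ : IrrCharacter (Equiv.Perm (Fin n)), charDegree (χ : Equiv.Perm (Fin n) → ℂ) = d := by
  have hs' : ∑ i, β i = Fintype.card (Fin n) + ∑ i : Fin m, (i : ℕ) := by rw [Fintype.card_fin]; exact hs
  refine ⟨⟨ch (Fin n) β, isIrr_ch hβ hs'⟩, ?_⟩
  have h1 := FM_mul_hookProd hβ hs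
  have h2 : (hookProd (lam m β) : ℤ) ≠ 0 := by
    have := hookProd_pos (dec_lam m β hβ)
    exact_mod_cast this.ne'
  have h3 : FM (Multiset.replicate n 1) β = (d : ℤ) := by
    apply mul_right_cancel₀ h2
    rw [h1]
    exact_mod_cast hd.symm
  refine Cfsg.Agent.Blocks.Knorr.charDegree_of_natCast ?_
  show ch (Fin n) β 1 = (d : ℂ)
  rw [ch_apply, ty_one, Fintype.card_fin, h3]
  simp

theorem hasDZ_alt {m n : ℕ} (hn : 2 ≤ n) {β : Fin m → ℕ} (hβ : StrictMono β)
    (hs : ∑ i, β i = n + ∑ i : Fin m, (i : ℕ)) {p : ℕ} (hp : p.Prime) (hp2 : p ≠ 2)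
    (hd : ¬ p ∣ hookProd (lam m β)) (hdv : hookProd (lam m β) ∣ n.factorial) :
    HasDZ p (alternatingGroup (Fin n)) := by
  classical
  have : Fact p.Prime := ⟨hp⟩
  have hnt : Nontrivial (Fin n) := Fin.nontrivial_iff_two_le.2 hn
  obtain ⟨d, hd'⟩ := hdv
  have hd1 : d * hookProd (lam m β) = n.factorial := by rw [hd', mul_comm]
  obtain ⟨χ, hχ⟩ := exists_irr hβ hs hd1
  obtain ⟨ψ, hψ⟩ := exists_constituent (alternatingGroup (Fin n)) χ.2
  have hidx : (alternatingGroup (Fin n)).index = 2 := alternatingGroup.index_eq_two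
  have h2 := degree_two (alternatingGroup (Fin n)) hidx χ.2 ψ.2 hψ
  have hcard : Nat.card (alternatingGroup (Fin n)) * 2 = n.factorial := by
    have h3 := (alternatingGroup (Fin n)).card_mul_index
    rw [hidx, Nat.card_perm, Nat.card_fin] at h3
    exact h3
  have hf2 : (2 : ℕ).factorization p = 0 :=
    Nat.factorization_eq_zero_of_not_dvd fun h => hp2 ((Nat.prime_dvd_prime_iff_eq hp Nat.prime_two).1 h)
  have hd0 : d ≠ 0 := by
    rintro rfl
    rw [zero_mul] at hd1
    exact (Nat.factorial_pos n).ne hd1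
  have hh0 : hookProd (lam m β) ≠ 0 := fun h => hd (by rw [h]; exact dvd_zero p)
  have hdn : d.factorization p = (Nat.card (alternatingGroup (Fin n))).factorization p := by
    have h4 : (d * hookProd (lam m β)).factorization p = (Nat.card (alternatingGroup (Fin n)) * 2).factorization p := by
      rw [hd1, hcard]
    rw [Nat.factorization_mul hd0 hh0, Nat.factorization_mul Nat.card_pos.ne' two_ne_zero, Finsupp.add_apply,
      Finsupp.add_apply, hf2, Nat.factorization_eq_zero_of_not_dvd hd] at h4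
    exact h4
  refine ⟨ψ, ?_⟩
  rw [← hdn, ← hχ]
  rcases h2 with h2 | ⟨h2, -⟩
  · rw [h2]
  · have h5 := (charDegree_pos ψ.2).1
    rw [h2, Nat.factorization_mul two_ne_zero h5.ne', Finsupp.add_apply, hf2, zero_add]

/-- **`A₉` has a character of 3-defect zero** (degree 162). -/
theorem hasDZ_A9 : HasDZ 3 (alternatingGroup (Fin 9)) := by
  have h1 : hookProd (lam 3 ![1, 4, 7]) = 2240 := by decide +kernel
  refine hasDZ_alt (m := 3) (β := ![1, 4, 7]) (by norm_num) ?_ (by decide) Nat.prime_three (by norm_num) ?_ ?_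
  · intro i j hij
    revert i j
    decide
  · rw [h1]; norm_num
  · rw [h1]; decide +kernel

end Cfsg.Agent.H513.HNF
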